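import Mathlib.Algebra.Module.LocalizedModule.Basic
import Mathlib.Algebra.Module.LocalizedModule.Submodule
import Mathlib.LinearAlgebra.Matrix.Charpoly.LinearMap
import Mathlib.RingTheory.LocalRing.ResidueField.Ideal
import Mathlib.RingTheory.Localization.BaseChange
import Mathlib.LinearAlgebra.TensorProduct.Tower
import Mathlib.Algebra.Module.Projective
import Mathlib.LinearAlgebra.Basis.VectorSpace
import Mathlib.Algebra.Polynomial.Div
import Mathlib.Algebra.Module.Torsion.Basic

/-!
Left invertibility of maps from a finite module to a projective module, locally on the base.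
-/

set_option autoImplicit false

universe u

open TensorProduct

namespace Groth.Agent.LeftInv

variable {A : Type u} [CommRing A] {M N : Type u} [AddCommGroup M] [Module A M] [AddCommGroup N] [Module A N]

/-- `u` is left invertible up to an element of `S`. -/
def LInv (S : Submonoid A) (u : M →ₗ[A] N) : Prop :=
  ∃ w : N →ₗ[A] M, ∃ t ∈ S, w ∘ₗ u = t • LinearMap.id

/-- Factor through a finite free module. -/
theorem exists_finite_free [Module.Finite A M] [Module.Projective A N] (u : M →ₗ[A] N) :
    ∃ (n : ℕ) (j : M →ₗ[A] (Fin n → A)) (r : (Fin n → A) →ₗ[A] N) (i : N →ₗ[A] (Fin n → A)),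
      r ∘ₗ j = u ∧ i ∘ₗ u = j := by
  classical
  obtain ⟨P⟩ := Module.projective_def.1 ‹Module.Projective A N›
  obtain ⟨S, hS⟩ := Module.Finite.fg_top (R := A) (M := M)
  let T : Finset N := S.biUnion fun x => (P (u x)).support
  let e : Fin T.card ≃ T := T.equivFin.symm
  let i : N →ₗ[A] (Fin T.card → A) := LinearMap.pi fun k => (Finsupp.lapply (e k).1).comp P
  let r : (Fin T.card → A) →ₗ[A] N := ∑ k, (LinearMap.proj k).smulRight (e k).1
  refine ⟨T.card, i ∘ₗ u, r, i, ?_, rfl⟩
  refine LinearMap.ext_on_range (v := fun x : S => (x : M)) (by simpa using hS) fun x => ?_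
  have hP : Finsupp.linearCombination A id (P (u x)) = u x := ‹Function.LeftInverse _ _› (u x)
  conv_rhs => rw [← hP]
  rw [Finsupp.linearCombination_apply_of_mem_supported A
    ((Finsupp.mem_supported A _).2 (Finset.coe_subset.2 (Finset.subset_biUnion_of_mem
      (fun x => (P (u x)).support) x.2)))]
  change r (i (u x)) = _
  simp only [r, i, LinearMap.sum_apply, LinearMap.smulRight_apply, LinearMap.proj_apply, LinearMap.pi_apply,
    LinearMap.comp_apply, Finsupp.lapply_apply, id_eq]
  exact (Equiv.sum_comp e (fun z : T => P (u x) z.1 • z.1)).trans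
    (Finset.sum_coe_sort T fun z => P (u x) z • z)

/-- Clearing denominators for a map out of a finite free module into a localisation. -/
theorem exists_lift_free {L : Type u} [AddCommGroup L] [Module A L] (S : Submonoid A) (η : M →ₗ[A] L)
    (hη : ∀ z : L, ∃ s ∈ S, ∃ m : M, s • z = η m) {n : ℕ} (g : (Fin n → A) →ₗ[A] L) :
    ∃ w : (Fin n → A) →ₗ[A] M, ∃ t ∈ S, η ∘ₗ w = t • g := by
  classical
  choose s hs m hm using fun i : Fin n => hη (g (Pi.single i 1))
  refine ⟨∑ i, ((∏ k ∈ Finset.univ.erase i, s k) • LinearMap.proj i).smulRight (m i), ∏ k, s k,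
    prod_mem fun k _ => hs k, LinearMap.pi_ext' fun i => LinearMap.ext_ring ?_⟩
  simp only [LinearMap.comp_apply, LinearMap.sum_apply, LinearMap.smulRight_apply, LinearMap.smul_apply,
    LinearMap.proj_apply, LinearMap.single_apply, smul_eq_mul]
  rw [Finset.sum_eq_single i (fun j _ hj => by simp [Pi.single_eq_of_ne hj]) (by simp), map_smul, ← hm i,
    Pi.single_eq_same, mul_one, smul_smul, Finset.prod_erase_mul _ _ (Finset.mem_univ i)]

/-- Finitely many identities up to `S` hold with a common element. -/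
theorem exists_common [Module.Finite A M] (S : Submonoid A) (D : Submodule A M) (d : M →ₗ[A] M)
    (h : ∀ m, ∃ s ∈ S, s • d m ∈ D) : ∃ t ∈ S, ∀ m, t • d m ∈ D := by
  classical
  obtain ⟨T, hT⟩ := Module.Finite.fg_top (R := A) (M := M)
  choose s hs hd using h
  refine ⟨∏ x ∈ T, s x, prod_mem fun x _ => hs x, fun m => ?_⟩
  have : m ∈ Submodule.span A (T : Set M) := hT ▸ Submodule.mem_top
  induction this using Submodule.span_induction with
  | mem x hx =>
    rw [← Finset.prod_erase_mul _ _ hx, mul_smul]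
    exact D.smul_mem _ (hd x)
  | zero => simp
  | add a b _ _ ha hb => rw [map_add, smul_add]; exact D.add_mem ha hb
  | smul c a _ ha => rw [map_smul, smul_comm]; exact D.smul_mem c ha

theorem lInv_iff_localized [Module.Finite A M] [Module.Projective A N] (u : M →ₗ[A] N) (S : Submonoid A) :
    (∃ W : LocalizedModule S N →ₗ[A] LocalizedModule S M, W ∘ₗ LocalizedModule.map S u = LinearMap.id) ↔
      LInv S u := by
  constructor
  · rintro ⟨W, hW⟩
    obtain ⟨n, j, r, i, hrj, hij⟩ := exists_finite_free u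
    obtain ⟨w, t, ht, hw⟩ := exists_lift_free S (LocalizedModule.mkLinearMap S M)
      (fun z => by
        obtain ⟨⟨m, s⟩, hms⟩ := IsLocalizedModule.surj S (LocalizedModule.mkLinearMap S M) z
        exact ⟨s.1, s.2, m, hms⟩)
      (W ∘ₗ LocalizedModule.mkLinearMap S N ∘ₗ r)
    have key : ∀ m, ∃ s ∈ S, s • ((w ∘ₗ i ∘ₗ u) m - t • m) ∈ (⊥ : Submodule A M) := fun m => by
      have h1 : LocalizedModule.mkLinearMap S M ((w ∘ₗ i ∘ₗ u) m) = LocalizedModule.mkLinearMap S M (t • m) := by
        have h2 := LinearMap.congr_fun hw (j m)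
        rw [LinearMap.comp_apply] at h2
        rw [LinearMap.comp_apply, hij, h2, map_smul, LinearMap.smul_apply]
        congr 1
        have h3 : r (j m) = u m := LinearMap.congr_fun hrj m
        have h4 := LinearMap.congr_fun hW (LocalizedModule.mkLinearMap S M m)
        simp only [LinearMap.comp_apply, LinearMap.id_apply, h3] at h4 ⊢
        refine Eq.trans ?_ h4
        congr 1
        change _ = LocalizedModule.map S u (LocalizedModule.mk m 1)
        simp [LocalizedModule.mkLinearMap_apply]
      obtain ⟨s, hs⟩ := IsLocalizedModule.exists_of_eq (S := S) h1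
      exact ⟨s.1, s.2, by rw [Submodule.mem_bot, smul_sub, sub_eq_zero]; exact hs⟩
    obtain ⟨t', ht', hd⟩ := exists_common S ⊥ (w ∘ₗ i ∘ₗ u - t • LinearMap.id) key
    refine ⟨t' • (w ∘ₗ i), t' * t, mul_mem ht' ht, LinearMap.ext fun m => ?_⟩
    have := (Submodule.mem_bot A).1 (hd m)
    simp only [LinearMap.sub_apply, LinearMap.comp_apply, LinearMap.smul_apply, LinearMap.id_apply, smul_sub,
      sub_eq_zero] at this ⊢
    rw [this, mul_smul]
  · rintro ⟨w, t, ht, hw⟩
    refine ⟨((Localization.mk 1 ⟨t, ht⟩ : Localization S) • LocalizedModule.map S w).restrictScalars A,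
      LinearMap.ext fun z => ?_⟩
    induction z using LocalizedModule.induction_on with
    | h m s =>
      have e : w (u m) = t • m := LinearMap.congr_fun hw m
      simp only [LinearMap.comp_apply, LinearMap.coe_restrictScalars, LinearMap.smul_apply, LinearMap.id_apply]
      rw [show LocalizedModule.map S u (LocalizedModule.mk m s) = LocalizedModule.mk (u m) s by simp,
        show LocalizedModule.map S w (LocalizedModule.mk (u m) s) = LocalizedModule.mk (w (u m)) s by simp,
        e, LocalizedModule.mk_smul_mk, one_smul]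
      exact LocalizedModule.mk_cancel_common_left ⟨t, ht⟩ s m

/-- An element of `M` vanishing at the residue field of `p` is killed into `p M` by an element outside `p`. -/
theorem exists_smul_mem_of_tmul_eq_zero (p : Ideal A) [p.IsPrime] {z : M}
    (hz : (1 : p.ResidueField) ⊗ₜ[A] z = 0) : ∃ s ∈ p.primeCompl, s • z ∈ p • (⊤ : Submodule A M) := by
  let F : p.ResidueField ⊗[A] M →ₗ[A] p.ResidueField ⊗[A ⧸ p] (M ⧸ p • (⊤ : Submodule A M)) :=
    TensorProduct.lift
      { toFun := fun a => ((TensorProduct.mk (A ⧸ p) p.ResidueField (M ⧸ p • (⊤ : Submodule A M)) a).restrictScalars A).comp (Submodule.mkQ _)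
        map_add' := fun a b => LinearMap.ext fun m => by simp
        map_smul' := fun c a => LinearMap.ext fun m => by simp [TensorProduct.smul_tmul'] }
  have h1 : (1 : p.ResidueField) ⊗ₜ[A ⧸ p] (Submodule.Quotient.mk z : (M ⧸ p • (⊤ : Submodule A M))) = 0 := by
    have := congrArg F hz
    rw [map_zero] at this
    simpa [F] using this
  have hb : IsLocalizedModule (nonZeroDivisors (A ⧸ p)) (TensorProduct.mk (A ⧸ p) p.ResidueField (M ⧸ p • (⊤ : Submodule A M)) 1) :=
    (isLocalizedModule_iff_isBaseChange _ p.ResidueField _).2 (TensorProduct.isBaseChange _ _ _)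
  obtain ⟨⟨c, hc⟩, hcz⟩ := (IsLocalizedModule.eq_zero_iff (nonZeroDivisors (A ⧸ p))
    (TensorProduct.mk (A ⧸ p) p.ResidueField (M ⧸ p • (⊤ : Submodule A M)) 1)).1 h1
  obtain ⟨s, rfl⟩ := Ideal.Quotient.mk_surjective c
  refine ⟨s, fun h => nonZeroDivisors.ne_zero hc (Ideal.Quotient.eq_zero_iff_mem.2 h), ?_⟩
  rw [← Submodule.Quotient.mk_eq_zero]
  exact hcz

theorem exists_smul_eq_tmul (p : Ideal A) [p.IsPrime] (z : p.ResidueField ⊗[A] M) :
    ∃ s ∈ p.primeCompl, ∃ m : M, s • z = (1 : p.ResidueField) ⊗ₜ[A] m := by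
  induction z with
  | zero => exact ⟨1, p.primeCompl.one_mem, 0, by simp⟩
  | tmul a m =>
    obtain ⟨a, rfl⟩ := Ideal.Quotient.mk_surjective (I := IsLocalRing.maximalIdeal (Localization.AtPrime p)) a
    obtain ⟨x, s, rfl⟩ := IsLocalization.exists_mk'_eq p.primeCompl a
    refine ⟨s.1, s.2, x • m, ?_⟩
    rw [TensorProduct.tmul_smul, TensorProduct.smul_tmul', TensorProduct.smul_tmul']
    congr 1
    have h := congrArg (Ideal.Quotient.mk (IsLocalRing.maximalIdeal (Localization.AtPrime p)))
      (IsLocalization.mk'_spec' (Localization.AtPrime p) x s)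
    rw [map_mul] at h
    rw [Algebra.smul_def, Algebra.smul_def, mul_one]
    exact h
  | add y z hy hz =>
    obtain ⟨s, hs, m, hm⟩ := hy
    obtain ⟨t, ht, n, hn⟩ := hz
    refine ⟨s * t, mul_mem hs ht, t • m + s • n, ?_⟩
    rw [smul_add, TensorProduct.tmul_add, TensorProduct.tmul_smul, TensorProduct.tmul_smul, ← hm, ← hn,
      smul_smul, smul_smul, mul_comm t s]

/-- Determinant trick: an endomorphism invertible modulo `p` is invertible up to an element outside `p`. -/
theorem exists_aeval_comp_eq [Module.Finite A M] (p : Ideal A) [hp : p.IsPrime] (φ : M →ₗ[A] M)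
    (hφ : ∀ m, φ m ∈ p • (⊤ : Submodule A M)) {c : A} (hc : c ∉ p) :
    ∃ R : M →ₗ[A] M, ∃ q ∉ p, R ∘ₗ (φ + c • LinearMap.id) = q • LinearMap.id := by
  obtain ⟨P, hmon, -, hcoeff, haeval⟩ := LinearMap.exists_monic_and_natDegree_eq_and_coeff_mem_pow_and_aeval_eq_zero
    A φ p (by rintro _ ⟨m, rfl⟩; exact hφ m)
  let Q := P.comp (Polynomial.X - Polynomial.C c)
  have hψ : Polynomial.aeval (φ + c • LinearMap.id : Module.End A M) Q = 0 := by
    rw [Polynomial.aeval_comp, map_sub, Polynomial.aeval_X, Polynomial.aeval_C, Algebra.algebraMap_eq_smul_one]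
    rw [show (φ + c • LinearMap.id : Module.End A M) - c • (1 : Module.End A M) = φ from add_sub_cancel_right _ _]
    exact haeval
  have hq : Q.coeff 0 ∉ p := by
    rw [Polynomial.coeff_zero_eq_eval_zero, Polynomial.eval_comp]
    simp only [Polynomial.eval_sub, Polynomial.eval_X, Polynomial.eval_C, zero_sub]
    intro h
    rw [Polynomial.eval_eq_sum_range, Finset.sum_range_succ, hmon.coeff_natDegree, one_mul,
      Ideal.add_mem_iff_right _ (Submodule.sum_mem _ fun k hk => p.mul_mem_right _
        (Ideal.pow_le_self (by simp only [Finset.mem_range] at hk; omega) (hcoeff k)))] at h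
    exact hc (neg_mem_iff.1 (hp.mem_of_pow_mem _ h))
  refine ⟨-(Polynomial.aeval (φ + c • LinearMap.id : Module.End A M) Q.divX), Q.coeff 0, hq, ?_⟩
  conv at hψ => rw [← Polynomial.divX_mul_X_add Q, map_add, map_mul, Polynomial.aeval_X, Polynomial.aeval_C,
    Algebra.algebraMap_eq_smul_one]
  rw [LinearMap.neg_comp]
  exact neg_eq_of_add_eq_zero_right hψ

theorem lInv_iff_residue [Module.Finite A M] [Module.Projective A N] (u : M →ₗ[A] N) (p : Ideal A) [p.IsPrime] :
    Function.Injective (u.lTensor p.ResidueField) ↔ LInv p.primeCompl u := by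
  constructor
  · intro hu
    obtain ⟨n, j, r, i, hrj, hij⟩ := exists_finite_free u
    have hj : Function.Injective (j.baseChange p.ResidueField) := by
      refine Function.Injective.of_comp (f := r.lTensor p.ResidueField) ?_
      rw [← hrj, LinearMap.lTensor_comp] at hu
      exact hu
    obtain ⟨l, hl⟩ := (j.baseChange p.ResidueField).exists_leftInverse_of_injective (LinearMap.ker_eq_bot.2 hj)
    obtain ⟨w, t, ht, hw⟩ := exists_lift_free p.primeCompl (TensorProduct.mk A p.ResidueField M 1)
      (exists_smul_eq_tmul p) ((l.restrictScalars A) ∘ₗ TensorProduct.mk A p.ResidueField (Fin n → A) 1)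
    have key : ∀ m, ∃ s ∈ p.primeCompl, s • ((w ∘ₗ j - t • LinearMap.id : M →ₗ[A] M) m) ∈ p • (⊤ : Submodule A M) :=
      fun m => exists_smul_mem_of_tmul_eq_zero p (by
        have h1 := LinearMap.congr_fun hw (j m)
        simp only [LinearMap.comp_apply, LinearMap.smul_apply, TensorProduct.mk_apply,
          LinearMap.coe_restrictScalars] at h1
        have h2 := LinearMap.congr_fun hl ((1 : p.ResidueField) ⊗ₜ[A] m)
        simp only [LinearMap.comp_apply, LinearMap.baseChange_tmul, LinearMap.id_apply] at h2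
        rw [LinearMap.sub_apply, LinearMap.comp_apply, LinearMap.smul_apply, LinearMap.id_apply,
          TensorProduct.tmul_sub, TensorProduct.tmul_smul, h1, h2, sub_self])
    obtain ⟨t', ht', hd⟩ := exists_common p.primeCompl (p • ⊤) _ key
    obtain ⟨R, q, hq, hR⟩ := exists_aeval_comp_eq p (t' • (w ∘ₗ j - t • LinearMap.id))
      (fun m => by rw [LinearMap.smul_apply]; exact hd m) (c := t' * t) (p.primeCompl.mul_mem ht' ht)
    refine ⟨R ∘ₗ (t' • (w ∘ₗ i)), q, hq, ?_⟩
    rw [← hR, LinearMap.comp_assoc]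
    congr 1
    rw [LinearMap.smul_comp, LinearMap.comp_assoc, hij, smul_sub, mul_smul, sub_add_cancel]
  · rintro ⟨w, t, ht, hw⟩ x y hxy
    have h := congrArg (w.lTensor p.ResidueField) hxy
    rw [← LinearMap.comp_apply, ← LinearMap.comp_apply, ← LinearMap.lTensor_comp, hw, LinearMap.lTensor_smul,
      LinearMap.lTensor_id, LinearMap.smul_apply, LinearMap.smul_apply, LinearMap.id_apply, LinearMap.id_apply] at h
    have ht' : algebraMap A p.ResidueField t ≠ 0 := fun h0 => ht (Ideal.algebraMap_residueField_eq_zero.1 h0)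
    rw [← algebraMap_smul p.ResidueField t x, ← algebraMap_smul p.ResidueField t y] at h
    exact (IsUnit.mk0 _ ht').smul_left_cancel.1 h

/-- Left invertible everywhere locally implies left invertible. -/
theorem exists_leftInverse_of_forall_maximal (u : M →ₗ[A] N)
    (h : ∀ m : Ideal A, ∀ _ : m.IsMaximal, LInv m.primeCompl u) : ∃ w : N →ₗ[A] M, w ∘ₗ u = LinearMap.id := by
  let I : Ideal A :=
    { carrier := {t | ∃ w : N →ₗ[A] M, w ∘ₗ u = t • LinearMap.id}
      add_mem' := by
        rintro a b ⟨w, hw⟩ ⟨w', hw'⟩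
        exact ⟨w + w', by rw [LinearMap.add_comp, hw, hw', add_smul]⟩
      zero_mem' := ⟨0, by rw [LinearMap.zero_comp, zero_smul]⟩
      smul_mem' := by
        rintro c a ⟨w, hw⟩
        exact ⟨c • w, by rw [LinearMap.smul_comp, hw, smul_smul, smul_eq_mul]⟩ }
  have hI : I = ⊤ := by
    by_contra hne
    obtain ⟨m, hm, hIm⟩ := I.exists_le_maximal hne
    obtain ⟨w, t, ht, hw⟩ := h m hm
    exact ht (hIm ⟨w, hw⟩)
  obtain ⟨w, hw⟩ := (Ideal.eq_top_iff_one _).1 hI
  exact ⟨w, by rw [hw, one_smul]⟩

end Groth.Agent.LeftInv
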