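import Groth.Agent.Lib.LeftInv.Quot
import Mathlib.LinearAlgebra.Matrix.NonsingularInverse
import Mathlib.LinearAlgebra.Matrix.ToLin
import Mathlib.RingTheory.Localization.FractionRing
import Mathlib.RingTheory.Localization.Module
import Mathlib.RingTheory.Noetherian.Basic
import Mathlib.RingTheory.Nakayama

/-!
Jacobian criterion with derivations for left invertibility of the conormal map of a quotient of a
formally smooth Noetherian algebra.
-/

set_option autoImplicit false

universe u

open TensorProduct KaehlerDifferential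

namespace Groth.Agent.LeftInv

/-- From an independent family of rows, select columns with nonzero determinant. -/
theorem exists_columns_det_ne_zero {K : Type*} [Field K] {m : ℕ} {S : Type*} (v : Fin m → S → K)
    (hv : LinearIndependent K v) : ∃ s : Fin m → S, Matrix.det (Matrix.of fun i j => v i (s j)) ≠ 0 := by
  classical
  let c : S → (Fin m → K) := fun s i => v i s
  have hspan : Submodule.span K (Set.range c) = ⊤ := by
    by_contra h
    obtain ⟨φ, hφ, hle⟩ := Submodule.exists_le_ker_of_lt_top _ (lt_top_iff_ne_top.mpr h)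
    refine hφ (LinearMap.pi_ext' fun i => LinearMap.ext_ring ?_)
    have h0 : ∑ j, φ (Pi.single j 1) • v j = 0 := by
      funext s
      have h1 : φ (c s) = 0 := hle (Submodule.subset_span ⟨s, rfl⟩)
      rw [pi_eq_sum_univ' (c s), map_sum] at h1
      simp only [map_smul, smul_eq_mul, c] at h1
      simp only [Finset.sum_apply, Pi.smul_apply, smul_eq_mul, Pi.zero_apply]
      exact (Finset.sum_congr rfl fun j _ => mul_comm _ _).trans h1
    simpa using Fintype.linearIndependent_iff.mp hv _ h0 i
  obtain ⟨b, hb, hbs, hbi⟩ := exists_linearIndependent K (Set.range c)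
  rw [hspan] at hbs
  let B := Module.Basis.mk hbi (by rw [Subtype.range_coe, hbs])
  haveI : Fintype b := FiniteDimensional.fintypeBasisIndex B
  have hcard : Fintype.card b = m := by
    rw [← Module.finrank_eq_card_basis B, Module.finrank_fin_fun]
  let e : Fin m ≃ b := (finCongr hcard.symm).trans (Fintype.equivFin b).symm
  choose s hs using fun x : b => hb x.2
  refine ⟨fun j => s (e j), ?_⟩
  rw [← isUnit_iff_ne_zero, ← Matrix.isUnit_iff_isUnit_det, ← Matrix.linearIndependent_cols_iff_isUnit]
  convert hbi.comp e e.injective using 1 <;> first | rfl | (funext j i; exact congrFun (hs (e j)) i)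

variable {A B C : Type u} [CommRing A] [CommRing B] [CommRing C]
    [Algebra A B] [Algebra B C] [Algebra A C] [IsScalarTower A B C]

theorem lInv_of_jacobian [IsNoetherianRing B] (hsurj : Function.Surjective (algebraMap B C)) (p : Ideal C) [p.IsPrime]
    [Module.Finite C (extOfSurj A B C hsurj).Cotangent]
    {m : ℕ} (f : Fin m → B) (D : Fin m → Derivation A B B) (hf : ∀ i, f i ∈ RingHom.ker (algebraMap B C))
    (hgen : ∀ x ∈ RingHom.ker (algebraMap B C), ∃ s, algebraMap B C s ∉ p ∧ s * x ∈ Ideal.span (Set.range f))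
    (hdet : algebraMap B C (Matrix.det (Matrix.of fun i j => D j (f i))) ∉ p) :
    LInv p.primeCompl (extOfSurj A B C hsurj).cotangentComplex := by
  classical
  let P : Algebra.Extension.{u} A C := extOfSurj A B C hsurj
  let M : Matrix (Fin m) (Fin m) B := Matrix.of fun i j => D j (f i)
  let φ : Fin m → (C ⊗[B] Ω[B⁄A] →ₗ[C] C) := fun j =>
    ((Algebra.linearMap B C).comp (D j).liftKaehlerDifferential).liftBaseChange C
  have hφ : ∀ j (x : B), φ j (1 ⊗ₜ[B] KaehlerDifferential.D A B x) = algebraMap B C (D j x) := by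
    intro j x
    simp [φ]
  let g : Fin m → P.Cotangent := fun i => Algebra.Extension.Cotangent.mk ⟨f i, hf i⟩
  let w : P.CotangentSpace →ₗ[C] P.Cotangent :=
    ∑ i, (∑ j, algebraMap B C (M.adjugate j i) • φ j).smulRight (g i)
  have hw : ∀ k, w (P.cotangentComplex (g k)) = algebraMap B C M.det • g k := by
    intro k
    have h1 : P.cotangentComplex (g k) = (1 : C) ⊗ₜ[B] KaehlerDifferential.D A B (f k) :=
      rfl
    have h2 : ∀ i, (∑ j, algebraMap B C (M.adjugate j i) • φ j) ((1 : C) ⊗ₜ[B] KaehlerDifferential.D A B (f k))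
        = if k = i then algebraMap B C M.det else 0 := by
      intro i
      rw [LinearMap.sum_apply]
      simp only [LinearMap.smul_apply, hφ, smul_eq_mul, ← map_mul, ← map_sum]
      have h3 := congrFun (congrFun (Matrix.mul_adjugate M) k) i
      rw [Matrix.mul_apply, Matrix.smul_apply, Matrix.one_apply] at h3
      rw [Finset.sum_congr rfl (fun j _ => mul_comm (M.adjugate j i) (D j (f k)))]
      rw [show (∑ j, D j (f k) * M.adjugate j i) = M.det • (if k = i then (1 : B) else 0) from h3]
      split_ifs <;> simp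
    rw [h1]
    change (∑ i, (∑ j, algebraMap B C (M.adjugate j i) • φ j).smulRight (g i))
      ((1 : C) ⊗ₜ[B] KaehlerDifferential.D A B (f k)) = _
    rw [LinearMap.sum_apply]
    simp only [LinearMap.smulRight_apply, h2]
    rw [Finset.sum_eq_single k (fun i _ hi => by rw [if_neg (Ne.symm hi), zero_smul])
      (by simp), if_pos rfl]
  let d : P.Cotangent →ₗ[C] P.Cotangent := w ∘ₗ P.cotangentComplex - algebraMap B C M.det • LinearMap.id
  have hd : ∀ z (hz : z ∈ Ideal.span (Set.range f)),
      d (Algebra.Extension.Cotangent.mk ⟨z, Ideal.span_le.mpr (Set.range_subset_iff.mpr hf) hz⟩) = 0 := by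
    intro z hz
    induction hz using Submodule.span_induction with
    | mem z hz =>
      obtain ⟨i, rfl⟩ := hz
      show w (P.cotangentComplex (g i)) - algebraMap B C M.det • g i = 0
      rw [hw, sub_self]
    | zero =>
      rw [show (⟨0, _⟩ : P.ker) = 0 from rfl, map_zero, map_zero]
    | add a b ha hb ha' hb' =>
      rw [show (⟨a + b, _⟩ : P.ker) = (⟨a, Ideal.span_le.mpr (Set.range_subset_iff.mpr hf) ha⟩ : P.ker) +
        ⟨b, Ideal.span_le.mpr (Set.range_subset_iff.mpr hf) hb⟩ from rfl, map_add, map_add, ha', hb', add_zero]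
    | smul c a ha ha' =>
      let m₀ : P.Ring := c
      rw [show (⟨c • a, _⟩ : P.ker) = m₀ • (⟨a, Ideal.span_le.mpr (Set.range_subset_iff.mpr hf) ha⟩ : P.ker) from rfl,
        map_smul, ← algebraMap_smul C m₀, map_smul, ha', smul_zero]
  have key : ∀ y, ∃ s ∈ p.primeCompl, s • d y ∈ (⊥ : Submodule C P.Cotangent) := by
    intro y
    obtain ⟨⟨x, hx⟩, rfl⟩ := Algebra.Extension.Cotangent.mk_surjective y
    obtain ⟨s, hs, hsx⟩ := hgen x hx
    let s₀ : P.Ring := s
    refine ⟨algebraMap B C s, hs, (Submodule.mem_bot C).mpr ?_⟩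
    have h4 : algebraMap B C s • (Algebra.Extension.Cotangent.mk (⟨x, hx⟩ : P.ker) : P.Cotangent) =
        Algebra.Extension.Cotangent.mk (s₀ • (⟨x, hx⟩ : P.ker)) := by
      rw [map_smul]
      exact algebraMap_smul C s₀ _
    rw [← map_smul, h4]
    exact hd (s * x) hsx
  obtain ⟨t, ht, hd'⟩ := exists_common p.primeCompl ⊥ d key
  refine ⟨t • w, t * algebraMap B C M.det, p.primeCompl.mul_mem ht hdet, LinearMap.ext fun y => ?_⟩
  have h := (Submodule.mem_bot C).1 (hd' y)
  simp only [d, LinearMap.sub_apply, LinearMap.comp_apply, LinearMap.smul_apply, LinearMap.id_apply,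
    smul_sub, sub_eq_zero] at h ⊢
  rw [mul_smul]
  exact h

theorem exists_jacobian_of_detect [IsNoetherianRing B]
    (p : Ideal C) [p.IsPrime]
    (hdetect : ∀ x ∈ RingHom.ker (algebraMap B C),
      (∀ s : Derivation A B B, s x ∈ p.comap (algebraMap B C)) →
      algebraMap B (Localization.AtPrime (p.comap (algebraMap B C))) x ∈
        IsLocalRing.maximalIdeal (Localization.AtPrime (p.comap (algebraMap B C))) •
          (RingHom.ker (algebraMap B C)).map (algebraMap B (Localization.AtPrime (p.comap (algebraMap B C))))) :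
    ∃ (m : ℕ) (f : Fin m → B) (D : Fin m → Derivation A B B), (∀ i, f i ∈ RingHom.ker (algebraMap B C)) ∧
      (∀ x ∈ RingHom.ker (algebraMap B C), ∃ s, algebraMap B C s ∉ p ∧ s * x ∈ Ideal.span (Set.range f)) ∧
      algebraMap B C (Matrix.det (Matrix.of fun i j => D j (f i))) ∉ p := by
  classical
  set J : Ideal B := RingHom.ker (algebraMap B C) with hJdef
  let q : Ideal B := p.comap (algebraMap B C)
  have hJq : J ≤ q := fun x hx => by
    show algebraMap B C x ∈ p
    rw [RingHom.mem_ker.mp hx]; exact p.zero_mem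
  -- minimal number of generators at `q`
  let Gen : ℕ → Prop := fun n => ∃ f : Fin n → B, (∀ i, f i ∈ J) ∧
    ∀ x ∈ J, ∃ s, algebraMap B C s ∉ p ∧ s * x ∈ Ideal.span (Set.range f)
  have hex : ∃ n, Gen n := by
    obtain ⟨n, f, hf⟩ := Submodule.fg_iff_exists_fin_generating_family.mp (IsNoetherian.noetherian J)
    exact ⟨n, f, fun i => hf ▸ Submodule.subset_span ⟨i, rfl⟩, fun x hx =>
      ⟨1, by rw [map_one]; exact (Ideal.ne_top_iff_one _).mp ‹p.IsPrime›.ne_top,
        by rw [one_mul, Ideal.span, hf]; exact hx⟩⟩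
  obtain ⟨m, ⟨f, hfJ, hgen⟩, hmin⟩ : ∃ m, Gen m ∧ ∀ n < m, ¬ Gen n :=
    ⟨_, Nat.find_spec hex, fun n => Nat.find_min hex⟩
  have key : ∀ a : Fin m → B, (∀ s : Derivation A B B, ∑ i, a i * s (f i) ∈ q) → ∀ i, a i ∈ q := by
    intro a ha
    let x := ∑ i, a i * f i
    have hxJ : x ∈ J := J.sum_mem fun i _ => J.mul_mem_left _ (hfJ i)
    have hDx : ∀ s : Derivation A B B, s x ∈ q := fun s => by
      show s (∑ i, a i * f i) ∈ q
      rw [map_sum]
      simp only [Derivation.leibniz, smul_eq_mul, Finset.sum_add_distrib]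
      exact q.add_mem (ha s) (q.sum_mem fun i _ => q.mul_mem_right _ (hJq (hfJ i)))
    by_contra hne
    push Not at hne
    obtain ⟨i₀, hi₀⟩ := hne
    let Bq := Localization.AtPrime q
    let ι := algebraMap B Bq
    let S : Ideal Bq := Ideal.span (Set.range fun i => ι (f i))
    have hJS : J.map ι ≤ S := by
      rw [Ideal.map_le_iff_le_comap]
      intro z hz
      obtain ⟨s, hs, hsz⟩ := hgen z hz
      have h5 : ι (s * z) ∈ S := by
        have := Ideal.mem_map_of_mem ι hsz
        rwa [Ideal.map_span, ← Set.range_comp] at this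
      rw [map_mul] at h5
      exact (Ideal.unit_mul_mem_iff_mem _ (IsLocalization.map_units Bq (⟨s, hs⟩ : q.primeCompl))).mp h5
    have hx : ι x ∈ IsLocalRing.maximalIdeal Bq • S := by
      exact Submodule.smul_mono le_rfl hJS (hdetect x hxJ hDx)
    let T : Ideal Bq := Ideal.span ((fun i => ι (f i)) '' {i | i ≠ i₀})
    have hST : S ≤ T ⊔ IsLocalRing.maximalIdeal Bq • S := by
      rw [Ideal.span_le]
      rintro _ ⟨i, rfl⟩
      by_cases hi : i = i₀
      · subst hi
        have hu' : IsUnit (ι (a i)) := IsLocalization.map_units Bq (⟨a i, hi₀⟩ : q.primeCompl)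
        refine (Ideal.unit_mul_mem_iff_mem _ hu').mp ?_
        have hsum : ι (a i) * ι (f i) = ι x - ∑ k ∈ Finset.univ.erase i, ι (a k) * ι (f k) := by
          rw [eq_sub_iff_add_eq, Finset.add_sum_erase _ (fun k => ι (a k) * ι (f k)) (Finset.mem_univ i)]
          simp [x, ι]
        rw [hsum]
        refine Submodule.sub_mem _ (Submodule.mem_sup_right hx) (Submodule.sum_mem _ fun k hk => ?_)
        exact Submodule.mem_sup_left (T.mul_mem_left _ (Ideal.subset_span ⟨k, Finset.ne_of_mem_erase hk, rfl⟩))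
      · exact Submodule.mem_sup_left (Ideal.subset_span ⟨i, hi, rfl⟩)
    have hSfg : S.FG := Submodule.fg_span (Set.finite_range _)
    have hle : S ≤ T := Submodule.le_of_le_smul_of_le_jacobson_bot hSfg
      (IsLocalRing.maximalIdeal_le_jacobson _) hST
    obtain ⟨n, hn⟩ : ∃ n, m = n + 1 := ⟨m - 1, by have := i₀.2; omega⟩
    refine hmin n (by omega)
      ⟨fun i => f (Fin.cast hn.symm (Fin.succAbove (Fin.cast hn i₀) i)), fun i => hfJ _, fun z hz => ?_⟩
    have h7 : ι z ∈ (Ideal.span (Set.range fun i => f (Fin.cast hn.symm (Fin.succAbove (Fin.cast hn i₀) i)))).map ι := by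
      refine ((hJS.trans hle).trans ?_) (Ideal.mem_map_of_mem _ hz)
      rw [Ideal.map_span, Ideal.span_le]
      rintro _ ⟨i, hi, rfl⟩
      obtain ⟨k, hk⟩ := Fin.exists_succAbove_eq (x := Fin.cast hn.symm.symm i) (y := Fin.cast hn i₀)
        (fun e => hi (Fin.cast_injective hn e))
      exact Ideal.subset_span ⟨_, ⟨k, rfl⟩, by simp [hk]⟩
    obtain ⟨s, hs, hsz⟩ := (IsLocalization.algebraMap_mem_map_algebraMap_iff q.primeCompl Bq _ _).mp h7
    exact ⟨s, hs, hsz⟩
  haveI : q.IsPrime := inferInstance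
  let K := FractionRing (B ⧸ q)
  let v : Fin m → Derivation A B B → K := fun i s => algebraMap (B ⧸ q) K (Ideal.Quotient.mk q (s (f i)))
  have hv : LinearIndependent K v := by
    rw [← LinearIndependent.iff_fractionRing (R := B ⧸ q), Fintype.linearIndependent_iff]
    intro g hg
    choose a ha using fun i => Ideal.Quotient.mk_surjective (g i)
    have : ∀ s : Derivation A B B, ∑ i, a i * s (f i) ∈ q := fun s => by
      rw [← Ideal.Quotient.eq_zero_iff_mem]
      refine IsFractionRing.injective (B ⧸ q) K ?_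
      have := congrFun hg s
      rw [Finset.sum_apply] at this
      rw [map_sum, map_sum, map_zero]
      refine Eq.trans (Finset.sum_congr rfl fun i _ => ?_) (this.trans rfl)
      rw [map_mul (Ideal.Quotient.mk q), map_mul (algebraMap (B ⧸ q) K), ha, Pi.smul_apply, Algebra.smul_def]
    intro i
    rw [← ha i]
    exact Ideal.Quotient.eq_zero_iff_mem.mpr (key a this i)
  obtain ⟨s, hs⟩ := exists_columns_det_ne_zero v hv
  refine ⟨m, f, s, hfJ, hgen, fun hbad => hs ?_⟩
  have hbad' : Matrix.det (Matrix.of fun i j => s j (f i)) ∈ q := hbad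
  have e : (Matrix.of fun i j => v i (s j)) =
      ((algebraMap (B ⧸ q) K).comp (Ideal.Quotient.mk q)).mapMatrix (Matrix.of fun i j => s j (f i)) := rfl
  rw [e, ← RingHom.map_det, RingHom.comp_apply, Ideal.Quotient.eq_zero_iff_mem.mpr hbad', map_zero]

theorem exists_jacobian_of_lInv [IsNoetherianRing B] [Module.Projective B Ω[B⁄A]]
    (hsurj : Function.Surjective (algebraMap B C)) (p : Ideal C) [p.IsPrime]
    (h : LInv p.primeCompl (extOfSurj A B C hsurj).cotangentComplex) :
    ∃ (m : ℕ) (f : Fin m → B) (D : Fin m → Derivation A B B), (∀ i, f i ∈ RingHom.ker (algebraMap B C)) ∧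
      (∀ x ∈ RingHom.ker (algebraMap B C), ∃ s, algebraMap B C s ∉ p ∧ s * x ∈ Ideal.span (Set.range f)) ∧
      algebraMap B C (Matrix.det (Matrix.of fun i j => D j (f i))) ∉ p := by
  classical
  refine exists_jacobian_of_detect p fun x hxJ hDx => ?_
  let P : Algebra.Extension.{u} A C := extOfSurj A B C hsurj
  let J : Ideal B := RingHom.ker (algebraMap B C)
  let q : Ideal B := p.comap (algebraMap B C)
  have hJq : J ≤ q := fun x hx => by
    show algebraMap B C x ∈ p
    rw [RingHom.mem_ker.mp hx]; exact p.zero_mem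
  obtain ⟨P0, hP0⟩ := Module.projective_def.1 ‹Module.Projective B Ω[B⁄A]›
  obtain ⟨w, t, ht, hwu⟩ := h
  obtain ⟨t₀, rfl⟩ := hsurj t
  let y : P.Cotangent := Algebra.Extension.Cotangent.mk (P := P) ⟨x, hxJ⟩
  have hu : P.cotangentComplex y ∈ p • (⊤ : Submodule C P.CotangentSpace) := by
    rw [show P.cotangentComplex y = (1 : C) ⊗ₜ[B] KaehlerDifferential.D A B x from rfl,
      ← hP0 (KaehlerDifferential.D A B x), Finsupp.linearCombination_apply, Finsupp.sum,
      TensorProduct.tmul_sum]
    refine Submodule.sum_mem _ fun s _ => ?_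
    rw [id_eq, TensorProduct.tmul_smul, ← algebraMap_smul C (P0 (KaehlerDifferential.D A B x) s)]
    exact Submodule.smul_mem_smul (hDx (((Finsupp.lapply s).comp P0).compDer (KaehlerDifferential.D A B))) trivial
  have hty : algebraMap B C t₀ • y ∈ p • (⊤ : Submodule C P.Cotangent) := by
    have h1 := Submodule.mem_map_of_mem (f := w) hu
    rw [Submodule.map_smul''] at h1
    have h2 : w (P.cotangentComplex y) = algebraMap B C t₀ • y := LinearMap.congr_fun hwu y
    rw [h2] at h1
    exact Submodule.smul_mono le_rfl le_top h1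
  have hrep : ∀ z ∈ p • (⊤ : Submodule C P.Cotangent),
      ∃ j, ∃ hj : j ∈ J, j ∈ q * J ∧ z = Algebra.Extension.Cotangent.mk (P := P) ⟨j, hj⟩ := by
    intro z hz
    refine Submodule.smul_induction_on hz (fun c hc z _ => ?_) ?_
    · obtain ⟨b, rfl⟩ := hsurj c
      obtain ⟨⟨j, hj⟩, rfl⟩ := Algebra.Extension.Cotangent.mk_surjective z
      refine ⟨b * j, J.mul_mem_left _ hj, Ideal.mul_mem_mul hc hj, ?_⟩
      let b₀ : P.Ring := b
      rw [show (⟨b * j, _⟩ : P.ker) = b₀ • (⟨j, hj⟩ : P.ker) from rfl, map_smul]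
      exact algebraMap_smul C b₀ _
    · rintro _ _ ⟨j, hj, hj', rfl⟩ ⟨k, hk, hk', rfl⟩
      exact ⟨j + k, J.add_mem hj hk, (q * J).add_mem hj' hk', (map_add _ _ _).symm⟩
  obtain ⟨j, hj, hj', hjy⟩ := hrep _ hty
  have htx : t₀ * x ∈ q * J := by
    let t₁ : P.Ring := t₀
    have h3 : Algebra.Extension.Cotangent.mk (P := P) (t₁ • ⟨x, hxJ⟩) =
        Algebra.Extension.Cotangent.mk (P := P) ⟨j, hj⟩ := by
      rw [map_smul, ← hjy]
      exact (algebraMap_smul C t₁ _).symm
    rw [Algebra.Extension.Cotangent.mk_eq_mk_iff_sub_mem] at h3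
    have h4 : t₀ * x - j ∈ q * J := (pow_two J ▸ Ideal.mul_mono hJq le_rfl : J ^ 2 ≤ q * J) h3
    simpa using (q * J).add_mem h4 hj'
  have h6 : algebraMap B (Localization.AtPrime q) (t₀ * x) ∈ q.map (algebraMap B (Localization.AtPrime q)) * J.map (algebraMap B (Localization.AtPrime q)) := by
    rw [← Ideal.map_mul]; exact Ideal.mem_map_of_mem _ htx
  rw [map_mul, Ideal.unit_mul_mem_iff_mem _
    (IsLocalization.map_units (Localization.AtPrime q) (⟨t₀, ht⟩ : q.primeCompl)),
    Localization.AtPrime.map_eq_maximalIdeal] at h6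
  exact h6

/-- Jacobian criterion: formal smoothness of a local ring of a quotient of a formally smooth Noetherian algebra. -/
theorem formallySmooth_localization_iff_jacobian [IsNoetherianRing B] [Algebra.FormallySmooth A B]
    (hsurj : Function.Surjective (algebraMap B C)) (p : Ideal C) [p.IsPrime] :
    Algebra.FormallySmooth A (Localization.AtPrime p) ↔
    ∃ (m : ℕ) (f : Fin m → B) (D : Fin m → Derivation A B B), (∀ i, f i ∈ RingHom.ker (algebraMap B C)) ∧
      (∀ x ∈ RingHom.ker (algebraMap B C), ∃ s, algebraMap B C s ∉ p ∧ s * x ∈ Ideal.span (Set.range f)) ∧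
      algebraMap B C (Matrix.det (Matrix.of fun i j => D j (f i))) ∉ p := by
  haveI : Module.Finite B (RingHom.ker (algebraMap B C)).Cotangent :=
    Module.Finite.of_surjective _ (RingHom.ker (algebraMap B C)).toCotangent_surjective
  haveI := finite_cotangent_extOfSurj A B C hsurj
  haveI : Algebra.FormallySmooth A (extOfSurj A B C hsurj).Ring := ‹Algebra.FormallySmooth A B›
  refine (lInv_cotangentComplex_iff (extOfSurj A B C hsurj) p.primeCompl).trans
    ⟨exists_jacobian_of_lInv hsurj p, ?_⟩
  rintro ⟨m, f, D, hf, hgen, hdet⟩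
  exact lInv_of_jacobian hsurj p f D hf hgen hdet

end Groth.Agent.LeftInv
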