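import Groth.Agent.Lib.LeftInv.Jacobian
import Groth.Agent.Lib.AdicSmooth.Deriv
import Mathlib.RingTheory.Filtration
import Mathlib.RingTheory.Localization.AtPrime.Basic

/-!
Adic formal smoothness of a local ring of a quotient gives the Jacobian condition.
-/

set_option autoImplicit false

universe u

namespace Groth.Agent.LeftInv

variable {A B C : Type u} [CommRing A] [CommRing B] [CommRing C]
    [Algebra A B] [Algebra B C] [Algebra A C] [IsScalarTower A B C]

/-- Derivations of `B` into vector spaces over `κ(q)` are detected by the derivations of `B`. -/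
def DerDetect (A : Type u) {B : Type u} [CommRing A] [CommRing B] [Algebra A B] (q : Ideal B) : Prop :=
  ∀ (N : Type u) [AddCommGroup N] [Module B N] [Module A N] [IsScalarTower A B N],
    (∀ b ∈ q, ∀ y : N, b • y = 0) → ∀ (δ : Derivation A B N) (x : B),
      (∀ s : Derivation A B B, s x ∈ q) → δ x = 0

theorem derDetect_of_projective [Module.Projective B Ω[B⁄A]] (q : Ideal B) : DerDetect A q := by
  intro N _ _ _ _ hq δ x hx
  obtain ⟨P0, hP0⟩ := Module.projective_def.1 ‹Module.Projective B Ω[B⁄A]›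
  rw [← Derivation.liftKaehlerDifferential_comp_D δ x, ← hP0 (KaehlerDifferential.D A B x),
    Finsupp.linearCombination_apply, Finsupp.sum, map_sum]
  refine Finset.sum_eq_zero fun s _ => ?_
  rw [map_smul]
  exact hq _ (hx (((Finsupp.lapply s).comp P0).compDer (KaehlerDifferential.D A B))) _

theorem detect_of_isAdicFormallySmooth [IsNoetherianRing B] (hsurj : Function.Surjective (algebraMap B C))
    (p : Ideal C) [p.IsPrime] (hdet : DerDetect A (p.comap (algebraMap B C)))
    (h : CAlgX.IsAdicFormallySmooth A (Localization.AtPrime p) (IsLocalRing.maximalIdeal (Localization.AtPrime p))) :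
    ∀ x ∈ RingHom.ker (algebraMap B C),
      (∀ s : Derivation A B B, s x ∈ p.comap (algebraMap B C)) →
      algebraMap B (Localization.AtPrime (p.comap (algebraMap B C))) x ∈
        IsLocalRing.maximalIdeal (Localization.AtPrime (p.comap (algebraMap B C))) •
          (RingHom.ker (algebraMap B C)).map (algebraMap B (Localization.AtPrime (p.comap (algebraMap B C)))) := by
  intro x hx hDx
  let q := p.comap (algebraMap B C)
  let Bq := Localization.AtPrime q
  let m := IsLocalRing.maximalIdeal Bq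
  let J' : Ideal Bq := (RingHom.ker (algebraMap B C)).map (algebraMap B Bq)
  have hJm : J' ≤ m := by
    rw [Ideal.map_le_iff_le_comap]
    intro y hy
    rw [Ideal.mem_comap, show m = q.map (algebraMap B Bq) from Localization.AtPrime.map_eq_maximalIdeal.symm]
    refine Ideal.mem_map_of_mem _ ?_
    show algebraMap B C y ∈ p
    rw [RingHom.mem_ker.mp hy]; exact p.zero_mem
  suffices hn : ∀ n, algebraMap B Bq x ∈ m • J' ⊔ m ^ n by
    haveI : Nontrivial (Bq ⧸ m • J') := Ideal.Quotient.nontrivial_iff.mpr fun e =>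
      (IsLocalRing.maximalIdeal.isMaximal Bq).ne_top (top_le_iff.mp (e ▸ Ideal.mul_le_left))
    haveI : IsLocalRing (Bq ⧸ m • J') := IsLocalRing.of_surjective' _ Ideal.Quotient.mk_surjective
    rw [← Ideal.Quotient.eq_zero_iff_mem, ← Submodule.mem_bot (R := Bq ⧸ m • J'),
      ← Ideal.iInf_pow_eq_bot_of_isLocalRing (m.map (Ideal.Quotient.mk (m • J')))
        (fun e => (IsLocalRing.maximalIdeal.isMaximal Bq).ne_top (top_le_iff.mp (by
          rw [← Ideal.comap_top (f := Ideal.Quotient.mk (m • J')), ← e,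
            Ideal.comap_map_of_surjective _ Ideal.Quotient.mk_surjective, ← RingHom.ker_eq_comap_bot, Ideal.mk_ker]
          exact sup_le le_rfl Ideal.mul_le_left))), Submodule.mem_iInf]
    intro n
    rw [← Ideal.map_pow]
    obtain ⟨a, ha, b, hb, hab⟩ := Submodule.mem_sup.mp (hn n)
    rw [← hab, map_add, Ideal.Quotient.eq_zero_iff_mem.mpr ha, zero_add]
    exact Ideal.mem_map_of_mem _ hb
  intro n
  let R := Bq ⧸ (J' ⊔ m ^ n)
  let E := Bq ⧸ (m • J' ⊔ m ^ n)
  have hle : m • J' ⊔ m ^ n ≤ J' ⊔ m ^ n := sup_le_sup_right Ideal.mul_le_right _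
  let π : E →ₐ[A] R := Ideal.Quotient.factorₐ A hle
  have hπB : ∀ b : B, π (algebraMap B E b) = algebraMap B R b := fun _ => rfl
  have hπ : Function.Surjective π := Ideal.Quotient.factor_surjective hle
  have hker : ∀ e : E, π e = 0 → e ∈ (J' ⊔ m ^ n).map (Ideal.Quotient.mk (m • J' ⊔ m ^ n)) := fun e he => by
    obtain ⟨a, rfl⟩ := Ideal.Quotient.mk_surjective e
    exact Ideal.mem_map_of_mem _ (Ideal.Quotient.eq_zero_iff_mem.mp he)
  have hmker : ∀ a ∈ m, ∀ e : E, π e = 0 → Ideal.Quotient.mk _ a * e = 0 := by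
    intro a ha e he
    obtain ⟨c, rfl⟩ := Ideal.Quotient.mk_surjective e
    have hc : c ∈ J' ⊔ m ^ n := Ideal.Quotient.eq_zero_iff_mem.mp he
    rw [← map_mul, Ideal.Quotient.eq_zero_iff_mem]
    have h1 : a * c ∈ m * (J' ⊔ m ^ n) := Ideal.mul_mem_mul ha hc
    rw [Ideal.mul_sup] at h1
    exact sup_le_sup (le_refl (m * J')) (Ideal.mul_le_right : m * m ^ n ≤ m ^ n) h1
  have hnil : IsNilpotent (RingHom.ker π) := by
    rcases Nat.eq_zero_or_pos n with rfl | hn0
    · refine ⟨1, ?_⟩
      rw [Submodule.pow_one]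
      refine le_bot_iff.mp fun e _ => ?_
      obtain ⟨c, rfl⟩ := Ideal.Quotient.mk_surjective e
      exact Ideal.mem_bot.mpr (Ideal.Quotient.eq_zero_iff_mem.mpr (Submodule.mem_sup_right (by simp)))
    refine ⟨2, le_bot_iff.mp ?_⟩
    rw [Submodule.pow_succ, Submodule.pow_one, Ideal.mul_le]
    intro y hy z hz
    obtain ⟨c, rfl⟩ := Ideal.Quotient.mk_surjective y
    have hc : c ∈ J' ⊔ m ^ n := Ideal.Quotient.eq_zero_iff_mem.mp hy
    exact Ideal.mem_bot.mpr (hmker c ((sup_le hJm (Ideal.pow_le_self (by omega))) hc) z hz)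
  -- the map `C_p → R`
  let f₀ : B →ₐ[A] R := IsScalarTower.toAlgHom A B R
  have hf₀ : ∀ y ∈ RingHom.ker (IsScalarTower.toAlgHom A B C), f₀ y = 0 := fun y hy => by
    show Ideal.Quotient.mk (J' ⊔ m ^ n) (algebraMap B Bq y) = 0
    exact Ideal.Quotient.eq_zero_iff_mem.mpr (Submodule.mem_sup_left (Ideal.mem_map_of_mem _ hy))
  let eC := Ideal.quotientKerAlgEquivOfSurjective (f := IsScalarTower.toAlgHom A B C) hsurj
  let g : C →ₐ[A] R := (Ideal.Quotient.liftₐ _ f₀ hf₀).comp eC.symm.toAlgHom
  have hg : ∀ b : B, g (algebraMap B C b) = algebraMap B R b := fun b => by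
    show Ideal.Quotient.liftₐ _ f₀ hf₀ (eC.symm (algebraMap B C b)) = f₀ b
    rw [show eC.symm (algebraMap B C b) = Ideal.Quotient.mk _ b from (AlgEquiv.symm_apply_eq eC).mpr rfl]
    rfl
  have hunit : ∀ c : p.primeCompl, IsUnit (g c) := fun c => by
    obtain ⟨b, hb⟩ := hsurj c
    rw [← hb, hg, IsScalarTower.algebraMap_apply B Bq R]
    refine (IsLocalization.map_units Bq (⟨b, fun hbq => c.2 ?_⟩ : q.primeCompl)).map _
    rw [← hb]; exact hbq
  let u : Localization.AtPrime p →ₐ[A] R := IsLocalization.liftAlgHom (M := p.primeCompl) (f := g) hunit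
  have hu : ∀ c, u (algebraMap C _ c) = g c := fun c => IsLocalization.lift_eq _ c
  have hu0 : ∀ y ∈ IsLocalRing.maximalIdeal (Localization.AtPrime p) ^ n, u y = 0 := by
    intro y hy
    have hp : p = q.map (algebraMap B C) := (Ideal.map_comap_of_surjective _ hsurj p).symm
    have h1 : (IsLocalRing.maximalIdeal (Localization.AtPrime p) ^ n).map u.toRingHom ≤ ⊥ := by
      rw [← Localization.AtPrime.map_eq_maximalIdeal, ← Ideal.map_pow, Ideal.map_map, Ideal.map_le_iff_le_comap]
      intro c hc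
      rw [hp, ← Ideal.map_pow] at hc
      obtain ⟨b, hb, rfl⟩ := (Ideal.mem_map_iff_of_surjective _ hsurj).mp hc
      rw [Ideal.mem_comap, Ideal.mem_bot]
      show u (algebraMap C _ (algebraMap B C b)) = 0
      rw [hu, hg, IsScalarTower.algebraMap_apply B Bq R, Ideal.Quotient.algebraMap_eq]
      refine Ideal.Quotient.eq_zero_iff_mem.mpr (Submodule.mem_sup_right ?_)
      rw [show m = q.map (algebraMap B Bq) from Localization.AtPrime.map_eq_maximalIdeal.symm, ← Ideal.map_pow]
      exact Ideal.mem_map_of_mem _ hb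
    exact (Submodule.mem_bot R).mp (h1 (Ideal.mem_map_of_mem _ hy))
  obtain ⟨χ, hχ⟩ := AdicSmooth.exists_lift_of_surjective h π hπ hnil u ⟨n, hu0⟩
  -- the derivation
  let v : B →ₐ[A] E := χ.comp ((IsScalarTower.toAlgHom A C (Localization.AtPrime p)).comp (IsScalarTower.toAlgHom A B C))
  have hv : ∀ b, v b = χ (algebraMap C _ (algebraMap B C b)) := fun _ => rfl
  let N : Submodule B E := Submodule.restrictScalars B (RingHom.ker π)
  have hd : ∀ b : B, algebraMap B E b - v b ∈ N := fun b => by
    show π (algebraMap B E b - v b) = 0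
    rw [map_sub, hπB, hv, show π (χ (algebraMap C _ (algebraMap B C b))) = u (algebraMap C _ (algebraMap B C b)) from
      AlgHom.congr_fun hχ _, hu, hg, sub_self]
  have hNN : ∀ y z : E, y ∈ N → z ∈ N → y * z = 0 := by
    intro y z hy hz
    rcases Nat.eq_zero_or_pos n with rfl | hn0
    · obtain ⟨c, hc⟩ := Ideal.Quotient.mk_surjective (y * z)
      rw [← hc]
      exact Ideal.Quotient.eq_zero_iff_mem.mpr (Submodule.mem_sup_right (by simp))
    obtain ⟨c, rfl⟩ := Ideal.Quotient.mk_surjective y
    exact hmker c ((sup_le hJm (Ideal.pow_le_self (by omega))) (Ideal.Quotient.eq_zero_iff_mem.mp hy)) z hz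
  have hqN : ∀ b ∈ q, ∀ y : N, b • y = 0 := fun b hb y => Subtype.ext (by
    show b • (y : E) = 0
    rw [Algebra.smul_def, IsScalarTower.algebraMap_apply B Bq E, Ideal.Quotient.algebraMap_eq]
    refine hmker _ ?_ _ y.2
    rw [show m = q.map (algebraMap B Bq) from Localization.AtPrime.map_eq_maximalIdeal.symm]
    exact Ideal.mem_map_of_mem _ hb)
  let δ₀ : B →ₗ[A] N :=
    { toFun := fun b => ⟨algebraMap B E b - v b, hd b⟩
      map_add' := fun a b => Subtype.ext (by
        show algebraMap B E (a + b) - v (a + b) = algebraMap B E a - v a + (algebraMap B E b - v b)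
        rw [map_add, map_add]; abel)
      map_smul' := fun a b => Subtype.ext (by
        show algebraMap B E (a • b) - v (a • b) = a • (algebraMap B E b - v b)
        simp only [Algebra.smul_def, map_mul, ← IsScalarTower.algebraMap_apply, AlgHom.commutes]
        ring) }
  have hδ₀ : ∀ b, (δ₀ b : E) = algebraMap B E b - v b := fun _ => rfl
  let δ : Derivation A B N := Derivation.mk' δ₀ fun a b => Subtype.ext (by
    show (δ₀ (a * b) : E) = a • (δ₀ b : E) + b • (δ₀ a : E)
    rw [hδ₀, hδ₀, hδ₀, Algebra.smul_def, Algebra.smul_def, map_mul, map_mul]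
    linear_combination -hNN _ _ (hd a) (hd b))
  have h0 : (δ₀ x : E) = 0 := congrArg Subtype.val (hdet N hqN δ x hDx)
  rw [hδ₀, hv, RingHom.mem_ker.mp hx, map_zero, map_zero, sub_zero,
    IsScalarTower.algebraMap_apply B Bq E, Ideal.Quotient.algebraMap_eq] at h0
  exact Ideal.Quotient.eq_zero_iff_mem.mp h0

end Groth.Agent.LeftInv
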