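import Groth.Agent.Lib.LeftInv.Smooth

/-!
Formal smoothness of localisations of a quotient of a formally smooth algebra.
-/

set_option autoImplicit false

universe u

open TensorProduct KaehlerDifferential

namespace Groth.Agent.LeftInv

variable (A B C : Type u) [CommRing A] [CommRing B] [CommRing C]
    [Algebra A B] [Algebra B C] [Algebra A C] [IsScalarTower A B C]

/-- The extension given by a surjection. -/
noncomputable abbrev extOfSurj (hsurj : Function.Surjective (algebraMap B C)) : Algebra.Extension.{u} A C where
  Ring := B
  σ := Function.surjInv hsurj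
  algebraMap_σ := Function.surjInv_eq hsurj

theorem finite_cotangent_extOfSurj (hsurj : Function.Surjective (algebraMap B C))
    [Module.Finite B (RingHom.ker (algebraMap B C)).Cotangent] :
    Module.Finite C (extOfSurj A B C hsurj).Cotangent := by
  let f : (RingHom.ker (algebraMap B C)).Cotangent →ₗ[(extOfSurj A B C hsurj).Ring] (extOfSurj A B C hsurj).Cotangent :=
    { toFun := Algebra.Extension.Cotangent.of (P := extOfSurj A B C hsurj)
      map_add' := fun _ _ => rfl
      map_smul' := fun b x => Algebra.Extension.Cotangent.ext (Algebra.Extension.Cotangent.val_smul' (P := extOfSurj A B C hsurj) b (.of x)).symm }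
  have : Module.Finite (extOfSurj A B C hsurj).Ring (RingHom.ker (algebraMap B C)).Cotangent := ‹_›
  have : Module.Finite (extOfSurj A B C hsurj).Ring (extOfSurj A B C hsurj).Cotangent :=
    Module.Finite.of_surjective f fun x => ⟨x.val, rfl⟩
  exact Module.Finite.of_restrictScalars_finite (extOfSurj A B C hsurj).Ring C _

variable {A B C}

theorem injective_lTensor_iff (hsurj : Function.Surjective (algebraMap B C)) (p : Ideal C) [p.IsPrime] :
    Function.Injective ((kerCotangentToTensor A B C).lTensor p.ResidueField) ↔
      Function.Injective ((extOfSurj A B C hsurj).cotangentComplex.lTensor p.ResidueField) := by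
  set P := extOfSurj A B C hsurj
  let e : P.Cotangent ≃ₗ[B] (RingHom.ker (algebraMap B C)).Cotangent :=
    { toFun := fun x => x.val
      map_add' := fun _ _ => rfl
      map_smul' := fun b x => Algebra.Extension.Cotangent.val_smul' (P := P) b x
      invFun := Algebra.Extension.Cotangent.of (P := P)
      left_inv := fun _ => rfl
      right_inv := fun _ => rfl }
  have hc1 : TensorProduct.CompatibleSMul B C p.ResidueField P.Cotangent := ⟨fun c m n => by
    obtain ⟨b, rfl⟩ := hsurj c
    rw [algebraMap_smul, algebraMap_smul, TensorProduct.smul_tmul]⟩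
  have hc2 : TensorProduct.CompatibleSMul B C p.ResidueField (C ⊗[B] Ω[B⁄A]) := ⟨fun c m n => by
    obtain ⟨b, rfl⟩ := hsurj c
    rw [algebraMap_smul, algebraMap_smul, TensorProduct.smul_tmul]⟩
  let E1 := TensorProduct.equivOfCompatibleSMul B C C p.ResidueField P.Cotangent
  let E2 := TensorProduct.equivOfCompatibleSMul B C C p.ResidueField (C ⊗[B] Ω[B⁄A])
  let E : p.ResidueField ⊗[C] P.Cotangent ≃ p.ResidueField ⊗[B] (RingHom.ker (algebraMap B C)).Cotangent :=
    E1.toEquiv.trans (e.lTensor p.ResidueField).toEquiv
  have key : ∀ z, (kerCotangentToTensor A B C).lTensor p.ResidueField (E z) =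
      E2 (P.cotangentComplex.lTensor p.ResidueField z) := fun z => by
    change (kerCotangentToTensor A B C).lTensor p.ResidueField (e.lTensor p.ResidueField (E1 z)) = _
    induction z with
    | zero => simp only [map_zero]
    | tmul a m => rfl
    | add x y hx hy => simp only [map_add, hx, hy]
  rw [← Function.Injective.of_comp_iff' _ E.bijective, ← E2.injective.of_comp_iff]
  exact iff_of_eq (congrArg _ (funext key))

end Groth.Agent.LeftInv
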