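import Groth.Agent.Lib.LeftInv.Basic
import Mathlib.RingTheory.Etale.Kaehler
import Mathlib.RingTheory.Smooth.Basic
import Mathlib.Algebra.Module.LocalizedModule.Exact

/-!
Formal smoothness of localisations of a quotient of a formally smooth algebra and left invertibility
of the conormal map.
-/

set_option autoImplicit false

universe u

open TensorProduct

namespace Groth.Agent.LeftInv

variable {A C : Type u} [CommRing A] [CommRing C] [Algebra A C]

theorem exists_leftInverse_of_projective {R M N Q : Type u} [CommRing R] [AddCommGroup M] [Module R M]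
    [AddCommGroup N] [Module R N] [AddCommGroup Q] [Module R Q] [Module.Projective R Q] (u : M →ₗ[R] N)
    (g : N →ₗ[R] Q) (hu : Function.Injective u) (hg : Function.Surjective g) (hex : Function.Exact u g) :
    ∃ W : N →ₗ[R] M, ∀ x, W (u x) = x := by
  obtain ⟨σ, hσ⟩ := Module.projective_lifting_property g LinearMap.id hg
  have h : ∀ y, y - σ (g y) ∈ LinearMap.range u := fun y => (hex _).1 (by
    have := LinearMap.congr_fun hσ (g y)
    simp only [LinearMap.comp_apply, LinearMap.id_apply] at this
    rw [map_sub, this, sub_self])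
  refine ⟨(LinearEquiv.ofInjective u hu).symm.toLinearMap ∘ₗ
    (LinearMap.id - σ ∘ₗ g).codRestrict (LinearMap.range u) h, fun x => ?_⟩
  simp only [LinearMap.comp_apply, LinearEquiv.coe_coe, LinearEquiv.symm_apply_eq]
  refine Subtype.ext ?_
  simp [hex.apply_apply_eq_zero]

theorem projective_of_leftInverse {R M N Q : Type u} [CommRing R] [AddCommGroup M] [Module R M]
    [AddCommGroup N] [Module R N] [AddCommGroup Q] [Module R Q] [Module.Projective R N] (u : M →ₗ[R] N)
    (g : N →ₗ[R] Q) (hg : Function.Surjective g) (hex : Function.Exact u g) (W : N →ₗ[R] M)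
    (hW : ∀ x, W (u x) = x) : Module.Projective R Q := by
  have hρ : LinearMap.ker g ≤ LinearMap.ker (LinearMap.id - u ∘ₗ W) := fun y hy => by
    obtain ⟨x, rfl⟩ := (hex y).1 hy
    simp [hW x]
  refine Module.Projective.of_split
    ((LinearMap.ker g).liftQ _ hρ ∘ₗ (g.quotKerEquivOfSurjective hg).symm.toLinearMap) g ?_
  refine LinearMap.ext fun z => ?_
  obtain ⟨y, rfl⟩ := hg z
  have : (g.quotKerEquivOfSurjective hg).symm (g y) = Submodule.Quotient.mk y :=
    (LinearEquiv.symm_apply_eq _).2 rfl
  simp [this, hex.apply_apply_eq_zero]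

theorem lInv_cotangentComplex_iff (P : Algebra.Extension.{u} A C) [Algebra.FormallySmooth A P.Ring]
    [Module.Finite C P.Cotangent] (S : Submonoid C) :
    Algebra.FormallySmooth A (Localization S) ↔ LInv S P.cotangentComplex := by
  have : Module.Projective C P.CotangentSpace := inferInstance
  let eΩ : LocalizedModule S (Ω[C⁄A]) ≃ₗ[(Localization S)] Ω[(Localization S)⁄A] :=
    (IsLocalizedModule.iso S (KaehlerDifferential.map A A C (Localization S))).extendScalarsOfIsLocalization S (Localization S)
  let e1 := P.equivH1CotangentOfFormallySmooth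
  have hsub : Subsingleton (Algebra.H1Cotangent A (Localization S)) ↔
      ∀ m, P.cotangentComplex m = 0 → ∃ s ∈ S, s • m = 0 := by
    rw [← (IsLocalizedModule.iso S (Algebra.H1Cotangent.map A A C (Localization S))).subsingleton_congr,
      LocalizedModule.subsingleton_iff]
    constructor
    · intro h m hm
      obtain ⟨s, hs, e⟩ := h (e1 ⟨m, hm⟩)
      rw [← map_smul, LinearEquiv.map_eq_zero_iff] at e
      exact ⟨s, hs, congrArg Subtype.val e⟩
    · intro h z
      obtain ⟨m, rfl⟩ := e1.surjective z
      obtain ⟨s, hs, e⟩ := h m.1 m.2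
      refine ⟨s, hs, ?_⟩
      rw [← map_smul, LinearEquiv.map_eq_zero_iff]
      exact Subtype.ext e
  rw [Algebra.formallySmooth_iff, hsub]
  let uS := LocalizedModule.map S P.cotangentComplex
  let gS := LocalizedModule.map S P.toKaehler
  have hg : Function.Surjective gS := LocalizedModule.map_surjective S P.toKaehler P.toKaehler_surjective
  have hex : Function.Exact uS gS := fun y => LocalizedModule.map_exact S P.cotangentComplex P.toKaehler
    P.exact_cotangentComplex_toKaehler y
  have hproj : Module.Projective (Localization S) (LocalizedModule S P.CotangentSpace) :=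
    .of_equiv ((IsLocalizedModule.isBaseChange S (Localization S) (LocalizedModule.mkLinearMap S P.CotangentSpace)).equiv)
  constructor
  · intro h
    obtain ⟨h₁, h₂⟩ : Module.Projective (Localization S) (Ω[(Localization S)⁄A]) ∧
        ∀ m, P.cotangentComplex m = 0 → ∃ s ∈ S, s • m = 0 := h
    have hinj : Function.Injective uS := by
      rw [injective_iff_map_eq_zero]
      intro x hx
      induction x using LocalizedModule.induction_on with
      | h m s =>
        rw [show uS (LocalizedModule.mk m s) = LocalizedModule.mk (P.cotangentComplex m) s by simp [uS],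
          ← LocalizedModule.zero_mk s, LocalizedModule.mk_eq] at hx
        obtain ⟨t, ht⟩ := hx
        rw [smul_zero, smul_zero, Submonoid.smul_def, Submonoid.smul_def, ← map_smul, ← map_smul] at ht
        obtain ⟨r, hr, hr0⟩ := h₂ _ ht
        rw [← LocalizedModule.zero_mk s, LocalizedModule.mk_eq]
        refine ⟨⟨r, hr⟩ * t, ?_⟩
        rw [smul_zero, smul_zero, mul_smul]
        exact hr0
    have : Module.Projective (Localization S) (LocalizedModule S (Ω[C⁄A])) := .of_equiv eΩ.symm
    obtain ⟨W, hW⟩ := @exists_leftInverse_of_projective (Localization S) (LocalizedModule S P.Cotangent) (LocalizedModule S P.CotangentSpace) (LocalizedModule S (Ω[C⁄A])) _ _ _ _ _ _ _ _ uS gS hinj hg hex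
    exact (lInv_iff_localized P.cotangentComplex S).1 ⟨W.restrictScalars C, LinearMap.ext hW⟩
  · rintro ⟨w, t, ht, hw⟩
    refine ⟨?_, fun m hm => ⟨t, ht, ?_⟩⟩
    · obtain ⟨W, hW⟩ := (lInv_iff_localized P.cotangentComplex S).2 ⟨w, t, ht, hw⟩
      let W' : LocalizedModule S P.CotangentSpace →ₗ[(Localization S)] LocalizedModule S P.Cotangent :=
        W.extendScalarsOfIsLocalization S (Localization S)
      have hW' : ∀ x, W' (uS x) = x := LinearMap.congr_fun hW
      have := @projective_of_leftInverse (Localization S) (LocalizedModule S P.Cotangent) (LocalizedModule S P.CotangentSpace) (LocalizedModule S (Ω[C⁄A])) _ _ _ _ _ _ _ hproj uS gS hg hex W' hW'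
      exact .of_equiv eΩ
    · rw [← LinearMap.id_apply (R := C) m, ← LinearMap.smul_apply, ← hw, LinearMap.comp_apply, hm, map_zero]

end Groth.Agent.LeftInv
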